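import Groth.Prelude.Def_W4c2quivmodsheafKron
import Mathlib.LinearAlgebra.FiniteDimensional.Lemmas
import Mathlib.LinearAlgebra.Dual.Lemmas
import Mathlib.LinearAlgebra.Pi

/-!
Basic lemmas on Kronecker modules: the sum map `Vⁿ → W`, the product map `V → Wⁿ`, and the dimension
characterisations of semistability for the extreme dimension vectors.
-/

set_option autoImplicit false
set_option linter.unusedSectionVars false

namespace K866.Kron

open Module KronMod

universe u v w

variable {K : Type u} [Field K] {V : Type v} {W : Type w}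
  [AddCommGroup V] [Module K V]
  [AddCommGroup W] [Module K W]
  {n : ℕ}

/-- The sum map `Vⁿ → W`. -/
def sumMap (f : Fin n → (V →ₗ[K] W)) : (Fin n → V) →ₗ[K] W :=
  LinearMap.lsum K (fun _ : Fin n => V) K f

@[simp] theorem sumMap_apply (f : Fin n → (V →ₗ[K] W)) (v : Fin n → V) :
    sumMap f v = ∑ j, f j (v j) := by
  simp [sumMap, LinearMap.lsum_apply]

theorem sumMap_coe (f : Fin n → (V →ₗ[K] W)) :
    (fun v : Fin n → V => ∑ j, f j (v j)) = (sumMap f : (Fin n → V) → W) := by
  funext v; simp

theorem sumMap_single (f : Fin n → (V →ₗ[K] W)) (j : Fin n) (v : V) :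
    sumMap f (Pi.single j v) = f j v := by
  classical
  rw [sumMap_apply, Finset.sum_eq_single j]
  · simp
  · intro i _ hij
    rw [Pi.single_eq_of_ne hij, map_zero]
  · simp

/-- The product map `V → Wⁿ`. -/
def prodMap (f : Fin n → (V →ₗ[K] W)) : V →ₗ[K] (Fin n → W) := LinearMap.pi f

@[simp] theorem prodMap_apply (f : Fin n → (V →ₗ[K] W)) (v : V) (j : Fin n) :
    prodMap f v j = f j v := rfl

variable [FiniteDimensional K V] [FiniteDimensional K W]

theorem isSemistable_of_isStable {f : Fin n → (V →ₗ[K] W)} (h : IsStable f) : IsSemistable f :=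
  ⟨h.1, fun V' W' h1 h2 h3 => (h.2 V' W' h1 h2 h3).le⟩

/-- The submodule `V'ⁿ` of `Vⁿ`. -/
def powSub (n : ℕ) (V' : Submodule K V) : Submodule K (Fin n → V) :=
  Submodule.pi Set.univ (fun _ => V')

omit [FiniteDimensional K V] in
theorem mem_powSub {V' : Submodule K V} {v : Fin n → V} : v ∈ powSub n V' ↔ ∀ j, v j ∈ V' := by
  simp [powSub, Submodule.mem_pi]

/-- `V'ⁿ` as a submodule of `Vⁿ` is isomorphic to the module of functions to `V'`. -/
def powSubEquiv (n : ℕ) (V' : Submodule K V) : powSub n V' ≃ₗ[K] (Fin n → V') where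
  toFun v := fun j => ⟨v.1 j, mem_powSub.1 v.2 j⟩
  invFun v := ⟨fun j => (v j : V), mem_powSub.2 fun j => (v j).2⟩
  map_add' _ _ := rfl
  map_smul' _ _ := rfl
  left_inv _ := rfl
  right_inv _ := rfl

theorem finrank_powSub (V' : Submodule K V) : finrank K (powSub n V') = n * finrank K V' := by
  rw [(powSubEquiv n V').finrank_eq, Module.finrank_pi_fintype]; simp

omit [FiniteDimensional K V] [FiniteDimensional K W] in
theorem isSubrep_map_sumMap (f : Fin n → (V →ₗ[K] W)) (V' : Submodule K V) :
    IsSubrep f V' ((powSub n V').map (sumMap f)) := by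
  classical
  intro j
  rintro _ ⟨v, hv, rfl⟩
  refine ⟨Pi.single j v, mem_powSub.2 fun i => ?_, sumMap_single f j v⟩
  by_cases hij : i = j
  · subst hij; simpa using hv
  · rw [Pi.single_eq_of_ne hij]; exact V'.zero_mem

omit [FiniteDimensional K V] [FiniteDimensional K W] in
theorem map_sumMap_le {f : Fin n → (V →ₗ[K] W)} {V' : Submodule K V} {W' : Submodule K W}
    (h : IsSubrep f V' W') : (powSub n V').map (sumMap f) ≤ W' := by
  rintro _ ⟨v, hv, rfl⟩
  rw [sumMap_apply]
  exact Submodule.sum_mem _ fun j _ => h j ⟨v j, mem_powSub.1 hv j, rfl⟩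

omit [FiniteDimensional K V] [FiniteDimensional K W] in
theorem isSubrep_comap_prodMap (f : Fin n → (V →ₗ[K] W)) (W' : Submodule K W) :
    IsSubrep f ((powSub n W').comap (prodMap f)) W' := by
  intro j
  rintro _ ⟨v, hv, rfl⟩
  exact mem_powSub.1 hv j

omit [FiniteDimensional K V] [FiniteDimensional K W] in
theorem le_comap_prodMap {f : Fin n → (V →ₗ[K] W)} {V' : Submodule K V} {W' : Submodule K W}
    (h : IsSubrep f V' W') : V' ≤ (powSub n W').comap (prodMap f) := by
  intro v hv
  exact mem_powSub.2 fun j => h j ⟨v, hv, rfl⟩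

theorem finrank_powSub_top : finrank K (powSub n (⊤ : Submodule K V)) = n * finrank K V := by
  rw [finrank_powSub, finrank_top]

omit [FiniteDimensional K V] [FiniteDimensional K W] in
theorem powSub_top : powSub n (⊤ : Submodule K V) = ⊤ := by
  ext v; simp [mem_powSub]

omit [FiniteDimensional K V] [FiniteDimensional K W] in
theorem powSub_bot : powSub n (⊥ : Submodule K V) = ⊥ := by
  ext v; rw [mem_powSub, Submodule.mem_bot]
  constructor
  · intro h; funext j; exact h j
  · rintro rfl j; exact Submodule.zero_mem _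

/-- For a semistable module with `dim V > 0` the sum map is onto. -/
theorem sumMap_surjective {f : Fin n → (V →ₗ[K] W)} (hf : IsSemistable f)
    (hV : 0 < finrank K V) : Function.Surjective (sumMap f) := by
  rw [← LinearMap.range_eq_top]
  by_contra hne
  have hsub : IsSubrep f (⊤ : Submodule K V) (LinearMap.range (sumMap f)) := by
    have := isSubrep_map_sumMap f (⊤ : Submodule K V)
    rwa [powSub_top, Submodule.map_top] at this
  have h1 : ¬ ((⊤ : Submodule K V) = ⊥ ∧ LinearMap.range (sumMap f) = ⊥) := by
    rintro ⟨h, -⟩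
    have : finrank K (⊤ : Submodule K V) = 0 := by rw [h]; exact finrank_bot K V
    rw [finrank_top] at this; omega
  have h2 := hf.2 ⊤ _ hsub h1 (fun h => hne h.2)
  rw [finrank_top, mul_comm] at h2
  have h3 : finrank K W ≤ finrank K (LinearMap.range (sumMap f)) := Nat.le_of_mul_le_mul_left h2 hV
  exact hne (Submodule.eq_top_of_finrank_eq (le_antisymm (Submodule.finrank_le _) h3))

/-- For a semistable module with `dim W > 0` the product map is injective. -/
theorem prodMap_injective {f : Fin n → (V →ₗ[K] W)} (hf : IsSemistable f)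
    (hW : 0 < finrank K W) : Function.Injective (prodMap f) := by
  rw [← LinearMap.ker_eq_bot]
  by_contra hne
  have hsub : IsSubrep f (LinearMap.ker (prodMap f)) (⊥ : Submodule K W) := by
    have := isSubrep_comap_prodMap f (⊥ : Submodule K W)
    rwa [powSub_bot, Submodule.comap_bot] at this
  have h2 := hf.2 _ ⊥ hsub (fun h => hne h.1) (by
    rintro ⟨-, h⟩
    have : finrank K (⊥ : Submodule K W) = finrank K W := by rw [h, finrank_top]
    rw [finrank_bot] at this; omega)
  rw [finrank_bot, mul_zero] at h2
  have h3 : finrank K (LinearMap.ker (prodMap f)) = 0 := by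
    rcases Nat.eq_zero_or_pos (finrank K (LinearMap.ker (prodMap f))) with h | h
    · exact h
    · have := Nat.mul_pos hW h; omega
  exact hne (Submodule.finrank_eq_zero.1 h3)

theorem isSemistable_iff_sumMap (f : Fin n → (V →ₗ[K] W))
    (hV : 0 < finrank K V) (hW : finrank K W = n * finrank K V) :
    IsSemistable f ↔ Function.Bijective (sumMap f) := by
  have hdim : finrank K (Fin n → V) = finrank K W := by
    rw [Module.finrank_pi_fintype, hW]; simp
  constructor
  · intro hf
    have hs := sumMap_surjective hf hV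
    exact ⟨(LinearMap.injective_iff_surjective_of_finrank_eq_finrank hdim).2 hs, hs⟩
  · intro hb
    refine ⟨by omega, fun V' W' h _ _ => ?_⟩
    have h1 : n * finrank K V' ≤ finrank K W' := by
      rw [← finrank_powSub, (Submodule.equivMapOfInjective (sumMap f) hb.1 (powSub n V')).finrank_eq]
      exact Submodule.finrank_mono (map_sumMap_le h)
    calc finrank K W * finrank K V' = finrank K V * (n * finrank K V') := by rw [hW]; ring
      _ ≤ finrank K V * finrank K W' := Nat.mul_le_mul_left _ h1

theorem isSemistable_iff_prodMap (f : Fin n → (V →ₗ[K] W))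
    (hW : 0 < finrank K W) (hV : finrank K V = n * finrank K W) :
    IsSemistable f ↔ Function.Bijective (prodMap f) := by
  have hdim : finrank K V = finrank K (Fin n → W) := by
    rw [Module.finrank_pi_fintype, hV]; simp
  constructor
  · intro hf
    have hs := prodMap_injective hf hW
    exact ⟨hs, (LinearMap.injective_iff_surjective_of_finrank_eq_finrank hdim).1 hs⟩
  · intro hb
    refine ⟨by omega, fun V' W' h _ _ => ?_⟩
    have h1 : finrank K V' ≤ n * finrank K W' := by
      rw [← finrank_powSub, (Submodule.equivMapOfInjective (prodMap f) hb.1 V').finrank_eq]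
      exact Submodule.finrank_mono (Submodule.map_le_iff_le_comap.2 (le_comap_prodMap h))
    calc finrank K W * finrank K V' ≤ finrank K W * (n * finrank K W') := Nat.mul_le_mul_left _ h1
      _ = finrank K V * finrank K W' := by rw [hV]; ring

theorem exists_submodule_finrank_one (hV : 0 < finrank K V) :
    ∃ V' : Submodule K V, finrank K V' = 1 := by
  have : Nontrivial V := Module.finrank_pos_iff.1 hV
  obtain ⟨v, hv⟩ := exists_ne (0 : V)
  exact ⟨K ∙ v, finrank_span_singleton hv⟩

theorem not_isStable_of_sumMap {f : Fin n → (V →ₗ[K] W)}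
    (hV : 1 < finrank K V) (hW : finrank K W = n * finrank K V)
    (hb : Function.Bijective (sumMap f)) : ¬ IsStable f := by
  intro hf
  obtain ⟨V', hV'⟩ := exists_submodule_finrank_one (K := K) (V := V) (by omega)
  have h := hf.2 V' _ (isSubrep_map_sumMap f V') (by
    rintro ⟨h, -⟩
    rw [h, finrank_bot] at hV'; omega) (by
    rintro ⟨h, -⟩
    rw [h, finrank_top] at hV'; omega)
  rw [hV', ← (Submodule.equivMapOfInjective (sumMap f) hb.1 (powSub n V')).finrank_eq,
    finrank_powSub, hV', hW] at h
  rw [mul_one, mul_one, mul_comm] at h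
  exact lt_irrefl _ h

theorem not_isStable_of_prodMap {f : Fin n → (V →ₗ[K] W)}
    (hW : 1 < finrank K W) (hV : finrank K V = n * finrank K W)
    (hb : Function.Bijective (prodMap f)) : ¬ IsStable f := by
  intro hf
  obtain ⟨W', hW'⟩ := exists_submodule_finrank_one (K := K) (V := W) (by omega)
  have h := hf.2 _ W' (isSubrep_comap_prodMap f W') (by
    rintro ⟨-, h⟩
    rw [h, finrank_bot] at hW'; omega) (by
    rintro ⟨-, h⟩
    rw [h, finrank_top] at hW'; omega)
  have h2 : finrank K ((powSub n W').comap (prodMap f)) = n := by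
    have h3 : ((powSub n W').comap (prodMap f)).map (prodMap f) = powSub n W' :=
      Submodule.map_comap_eq_of_surjective hb.2 _
    rw [(Submodule.equivMapOfInjective (prodMap f) hb.1 _).finrank_eq, h3, finrank_powSub, hW',
      mul_one]
  rw [h2, hW', hV] at h
  rw [mul_one, mul_comm] at h
  exact lt_irrefl _ h

theorem submodule_eq_bot_or_top_of_finrank_one (h : finrank K V = 1) (V' : Submodule K V) :
    V' = ⊥ ∨ V' = ⊤ := by
  have h1 : finrank K V' ≤ 1 := h ▸ Submodule.finrank_le V'
  rcases Nat.eq_zero_or_pos (finrank K V') with h0 | h0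
  · exact Or.inl (Submodule.finrank_eq_zero.1 h0)
  · exact Or.inr (Submodule.eq_top_of_finrank_eq (by omega))

end K866.Kron
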