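import Groth.Agent.KronMod.K866.Basic
import Mathlib.LinearAlgebra.Eigenspace.Triangularizable
import Mathlib.LinearAlgebra.Matrix.ToLinearEquiv
import Mathlib.LinearAlgebra.Matrix.Determinant.Basic
import Mathlib.LinearAlgebra.Matrix.ToLin
import Mathlib.FieldTheory.IsAlgClosed.Basic

/-!
Pencils of linear maps: two arrows.
-/

set_option autoImplicit false
set_option linter.unusedSectionVars false

namespace K866.Kron

open Module KronMod

universe u v w

variable {K : Type u} [Field K] {V : Type v} {W : Type w}
  [AddCommGroup V] [Module K V]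
  [AddCommGroup W] [Module K W]
  [FiniteDimensional K V] [FiniteDimensional K W]

/-- For two linear maps between spaces of the same positive dimension over an algebraically closed
field there is a nonzero vector with linearly dependent images. -/
theorem exists_dependent [IsAlgClosed K] (a b : V →ₗ[K] W) (h : finrank K V = finrank K W)
    (hV : 0 < finrank K V) :
    ∃ (v : V) (w : W), v ≠ 0 ∧ a v ∈ K ∙ w ∧ b v ∈ K ∙ w := by
  have : Nontrivial V := Module.finrank_pos_iff.1 hV
  by_cases hb : Function.Injective b
  · have hb' : Function.Bijective b :=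
      ⟨hb, (LinearMap.injective_iff_surjective_of_finrank_eq_finrank h).1 hb⟩
    let e := LinearEquiv.ofBijective b hb'
    obtain ⟨c, hc⟩ := Module.End.exists_eigenvalue ((e.symm : W →ₗ[K] V) ∘ₗ a)
    obtain ⟨v, hv⟩ := hc.exists_hasEigenvector
    refine ⟨v, b v, hv.2, ?_, Submodule.mem_span_singleton_self _⟩
    have h1 : e.symm (a v) = c • v := hv.apply_eq_smul
    have h2 : a v = c • b v := by
      have := congrArg e h1
      rw [LinearEquiv.apply_symm_apply, map_smul] at this
      exact this
    rw [h2]
    exact Submodule.smul_mem _ _ (Submodule.mem_span_singleton_self _)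
  · rw [← LinearMap.ker_eq_bot] at hb
    obtain ⟨v, hv, hv0⟩ := Submodule.exists_mem_ne_zero_of_ne_bot hb
    refine ⟨v, a v, hv0, Submodule.mem_span_singleton_self _, ?_⟩
    rw [LinearMap.mem_ker.1 hv]
    exact Submodule.zero_mem _

/-- A singular pencil has a polynomial null vector: a subspace `V'` with `b V' ≤ a V'` on which
`a` is not injective. -/
theorem exists_subspace_of_singular_pencil [Infinite K] (a b : V →ₗ[K] W)
    (h : finrank K V = finrank K W)
    (hs : ∀ t : K, ¬ Function.Bijective (a + t • b : V →ₗ[K] W)) :
    ∃ V' : Submodule K V, V'.map b ≤ V'.map a ∧ finrank K (V'.map a) < finrank K V' := by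
  classical
  set k := finrank K V with hk
  let bV : Basis (Fin k) K V := Module.finBasisOfFinrankEq K V hk.symm
  let bW : Basis (Fin k) K W := Module.finBasisOfFinrankEq K W h.symm
  set A : Matrix (Fin k) (Fin k) K := LinearMap.toMatrix bV bW a with hA
  set B : Matrix (Fin k) (Fin k) K := LinearMap.toMatrix bV bW b with hB
  let M : Matrix (Fin k) (Fin k) (Polynomial K) :=
    A.map Polynomial.C + (Polynomial.X : Polynomial K) • B.map Polynomial.C
  have hdet : M.det = 0 := by
    apply Polynomial.eq_zero_of_infinite_isRoot
    apply Set.infinite_of_injective_forall_mem (f := fun t : K => t) (fun _ _ h => h)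
    intro t
    show Polynomial.IsRoot M.det t
    rw [Polynomial.IsRoot, ← Polynomial.coe_evalRingHom, RingHom.map_det]
    have h1 : (Polynomial.evalRingHom t).mapMatrix M = LinearMap.toMatrix bV bW (a + t • b) := by
      ext i j
      simp only [M, hA, hB, RingHom.mapMatrix_apply, Matrix.map_apply, Matrix.add_apply,
        Matrix.smul_apply, LinearMap.toMatrix_apply, smul_eq_mul, map_add, Polynomial.eval_mul,
        Polynomial.coe_evalRingHom, Polynomial.eval_C, Polynomial.eval_X, LinearMap.add_apply,
        LinearMap.smul_apply, map_smul, Finsupp.coe_add, Finsupp.coe_smul, Pi.add_apply,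
        Pi.smul_apply]
    rw [h1]
    by_contra hne
    apply hs t
    have hu : IsUnit (LinearMap.toMatrix bV bW (a + t • b)).det := isUnit_iff_ne_zero.2 hne
    exact (LinearEquiv.ofIsUnitDet hu).bijective
  obtain ⟨p, hp0, hp⟩ := Matrix.exists_mulVec_eq_zero_iff.2 hdet
  -- the coefficient vectors
  let c : ℕ → V := fun m => ∑ i, (p i).coeff m • bV i
  have hMp : ∀ i, ∑ j, (Polynomial.C (A i j) + Polynomial.X * Polynomial.C (B i j)) * p j = 0 := by
    intro i
    have := congrFun hp i
    simpa [Matrix.mulVec, dotProduct, M] using this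
  have ha0 : ∀ m, a (c m) = ∑ i, (∑ j, A i j * (p j).coeff m) • bW i := by
    intro m
    apply bW.ext_elem
    intro i
    simp only [c, map_sum, map_smul, hA]
    simp [LinearMap.toMatrix_apply, Finsupp.single_apply, mul_comm]
  have hb0 : ∀ m, b (c m) = ∑ i, (∑ j, B i j * (p j).coeff m) • bW i := by
    intro m
    apply bW.ext_elem
    intro i
    simp only [c, map_sum, map_smul, hB]
    simp [LinearMap.toMatrix_apply, Finsupp.single_apply, mul_comm]
  have hco : ∀ i m, ∑ j, A i j * (p j).coeff (m + 1) + ∑ j, B i j * (p j).coeff m = 0 := by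
    intro i m
    have := congrArg (fun q => Polynomial.coeff q (m + 1)) (hMp i)
    simp only [Polynomial.finsetSum_coeff, add_mul, Polynomial.coeff_add, Polynomial.coeff_C_mul,
      mul_assoc, Polynomial.coeff_X_mul, Polynomial.coeff_zero, Finset.sum_add_distrib] at this
    exact this
  have hco0 : ∀ i, ∑ j, A i j * (p j).coeff 0 = 0 := by
    intro i
    have := congrArg (fun q => Polynomial.coeff q 0) (hMp i)
    simpa [Polynomial.finsetSum_coeff, add_mul, Finset.sum_add_distrib, mul_assoc] using this
  have hrec : ∀ m, b (c m) = - a (c (m + 1)) := by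
    intro m
    rw [ha0, hb0, ← Finset.sum_neg_distrib]
    refine Finset.sum_congr rfl fun i _ => ?_
    rw [← neg_smul, eq_neg_of_add_eq_zero_right (hco i m)]
  have hrec0 : a (c 0) = 0 := by
    rw [ha0]
    exact Finset.sum_eq_zero fun i _ => by rw [hco0, zero_smul]
  have hne : ∃ m, c m ≠ 0 := by
    by_contra hcon
    push Not at hcon
    apply hp0
    funext i
    ext m
    have h1 := congrArg (fun v => bV.repr v i) (hcon m)
    simpa [c, Finsupp.single_apply] using h1
  let m := Nat.find hne
  have hm : c m ≠ 0 := Nat.find_spec hne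
  have hmk : a (c m) = 0 := by
    rcases Nat.eq_zero_or_pos m with h0 | h0
    · rw [h0]; exact hrec0
    · obtain ⟨m', hm'⟩ : ∃ m', m = m' + 1 := ⟨m - 1, by omega⟩
      have h1 : c m' = 0 := by
        by_contra h2
        exact Nat.find_min hne (show m' < m by omega) h2
      have h2 := hrec m'
      rw [h1, map_zero, ← hm'] at h2
      exact neg_eq_zero.1 h2.symm
  refine ⟨Submodule.span K (Set.range c), ?_, ?_⟩
  · rw [Submodule.map_span_le]
    rintro _ ⟨m, rfl⟩
    rw [hrec]
    exact Submodule.neg_mem _ ⟨c (m + 1), Submodule.subset_span ⟨_, rfl⟩, rfl⟩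
  · set V' := Submodule.span K (Set.range c)
    have h1 := LinearMap.finrank_range_add_finrank_ker (a.domRestrict V')
    have h2 : LinearMap.range (a.domRestrict V') = V'.map a := by
      rw [LinearMap.range_domRestrict]
    have h3 : 0 < finrank K (LinearMap.ker (a.domRestrict V')) := by
      apply Nat.pos_of_ne_zero
      intro h0
      have h4 := Submodule.finrank_eq_zero.1 h0
      have h5 : (⟨c m, Submodule.subset_span ⟨_, rfl⟩⟩ : V') ∈ LinearMap.ker (a.domRestrict V') := by
        rw [LinearMap.mem_ker]; exact hmk
      rw [h4, Submodule.mem_bot] at h5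
      exact hm (congrArg Subtype.val h5)
    rw [h2] at h1
    omega

end K866.Kron
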