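import Groth.Agent.KronMod.K866.Basic

/-!
Spaces of singular linear maps between planes.
-/

set_option autoImplicit false
set_option linter.unusedSectionVars false

namespace K866.Kron

open Module KronMod

universe u v w

variable {K : Type u} [Field K] {V : Type v} {W : Type w}
  [AddCommGroup V] [Module K V]
  [AddCommGroup W] [Module K W]
  [FiniteDimensional K V] [FiniteDimensional K W]

/-- A linear map of rank one between planes and a second map `b` such that all `a + t b` are
singular: `b` maps the kernel of `a` to the image of `a`. -/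
theorem apply_ker_mem_of_singular [Infinite K] (a b : V →ₗ[K] W)
    (hV : finrank K V = 2) (hW : finrank K W = 2)
    (hs : ∀ t : K, ¬ Function.Bijective (a + t • b : V →ₗ[K] W))
    {v : V} {w : W} (hv : a v = 0) (hw : w ≠ 0) (hw' : w ∈ LinearMap.range a) :
    b v ∈ K ∙ w := by
  by_contra hb
  obtain ⟨u, rfl⟩ := hw'
  -- `a u, b v` is a basis
  have hlt : (K ∙ a u) < (K ∙ a u) ⊔ (K ∙ b v) := by
    refine lt_of_le_of_ne le_sup_left fun h => hb ?_
    rw [h]
    exact (le_sup_right : (K ∙ b v) ≤ _) (Submodule.mem_span_singleton_self _)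
  have htop : (K ∙ a u) ⊔ (K ∙ b v) = ⊤ := by
    apply Submodule.eq_top_of_finrank_eq
    have h1 := Submodule.finrank_lt_finrank_of_lt hlt
    rw [finrank_span_singleton hw] at h1
    have h2 := Submodule.finrank_le ((K ∙ a u) ⊔ (K ∙ b v))
    omega
  have hbu : b u ∈ (K ∙ a u) ⊔ (K ∙ b v) := by rw [htop]; trivial
  obtain ⟨x, hx, y, hy, hxy⟩ := Submodule.mem_sup.1 hbu
  obtain ⟨α, rfl⟩ := Submodule.mem_span_singleton.1 hx
  obtain ⟨β, rfl⟩ := Submodule.mem_span_singleton.1 hy
  obtain ⟨t, ht⟩ := Set.Finite.exists_notMem (s := ({0, -α⁻¹} : Set K)) (by simp)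
  simp only [Set.mem_insert_iff, Set.mem_singleton_iff, not_or] at ht
  have ht1 : 1 + t * α ≠ 0 := by
    intro h
    by_cases hα : α = 0
    · rw [hα, mul_zero, add_zero] at h; exact one_ne_zero h
    · apply ht.2
      rw [eq_neg_iff_add_eq_zero]
      field_simp
      rw [add_comm, mul_zero]
      exact h
  apply hs t
  have hsurj : Function.Surjective (a + t • b : V →ₗ[K] W) := by
    rw [← LinearMap.range_eq_top, ← top_le_iff, ← htop]
    have h1 : b v ∈ LinearMap.range (a + t • b) := by
      refine ⟨t⁻¹ • v, ?_⟩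
      rw [map_smul, LinearMap.add_apply, hv, zero_add, LinearMap.smul_apply, smul_smul,
        inv_mul_cancel₀ ht.1, one_smul]
    have h2 : a u ∈ LinearMap.range (a + t • b) := by
      have h3 : (a + t • b) u = (1 + t * α) • a u + (t * β) • b v := by
        rw [LinearMap.add_apply, LinearMap.smul_apply, ← hxy, smul_add, smul_smul, smul_smul,
          add_smul, one_smul, add_assoc]
      have h4 : a u = (1 + t * α)⁻¹ • ((a + t • b) u - (t * β) • b v) := by
        rw [h3, add_sub_cancel_right, smul_smul, inv_mul_cancel₀ ht1, one_smul]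
      rw [h4]
      exact Submodule.smul_mem _ _ (Submodule.sub_mem _ ⟨u, rfl⟩ (Submodule.smul_mem _ _ h1))
    exact sup_le ((Submodule.span_singleton_le_iff_mem _ _).2 h2)
      ((Submodule.span_singleton_le_iff_mem _ _).2 h1)
  exact ⟨(LinearMap.injective_iff_surjective_of_finrank_eq_finrank (by rw [hV, hW])).2 hsurj,
    hsurj⟩

theorem exists_ker_of_not_bijective {a : V →ₗ[K] W} (h : finrank K V = finrank K W)
    (ha : ¬ Function.Bijective a) : ∃ v, v ≠ 0 ∧ a v = 0 := by
  have h1 : ¬ Function.Injective a := fun hi =>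
    ha ⟨hi, (LinearMap.injective_iff_surjective_of_finrank_eq_finrank h).1 hi⟩
  rw [← LinearMap.ker_eq_bot] at h1
  obtain ⟨v, hv, hv0⟩ := Submodule.exists_mem_ne_zero_of_ne_bot h1
  exact ⟨v, hv0, hv⟩

theorem range_eq_span_of_not_bijective {a : V →ₗ[K] W}
    (hV : finrank K V = 2) (hW : finrank K W = 2)
    (ha : ¬ Function.Bijective a) {w : W} (hw : w ≠ 0) (hw' : w ∈ LinearMap.range a) :
    LinearMap.range a = K ∙ w := by
  symm
  apply Submodule.eq_of_le_of_finrank_le
  · exact (Submodule.span_singleton_le_iff_mem _ _).2 hw'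
  · rw [finrank_span_singleton hw]
    have h1 : LinearMap.range a ≠ ⊤ := fun h => ha (by
      have hsurj := LinearMap.range_eq_top.1 h
      exact ⟨(LinearMap.injective_iff_surjective_of_finrank_eq_finrank (by rw [hV, hW])).2 hsurj,
        hsurj⟩)
    have h2 := Submodule.finrank_lt h1
    omega

theorem exists_bijective_of_two [Infinite K] {n : ℕ} (f : Fin n → (V →ₗ[K] W))
    (hV : finrank K V = 2) (hW : finrank K W = 2) (hf : IsSemistable f) :
    ∃ z : Fin n → K, Function.Bijective ((∑ j, z j • f j : V →ₗ[K] W) : V → W) := by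
  classical
  by_contra hcon
  push Not at hcon
  have hsurj := sumMap_surjective hf (by omega)
  have hinj := prodMap_injective hf (by omega)
  have hVW : finrank K V = finrank K W := by rw [hV, hW]
  -- every combination of two arrows is singular
  have hsing : ∀ i j (t : K), ¬ Function.Bijective (f i + t • f j : V →ₗ[K] W) := by
    intro i j t
    have h := hcon (Pi.single i 1 + t • Pi.single j 1)
    have e : (∑ k, (Pi.single i 1 + t • Pi.single j 1 : Fin n → K) k • f k : V →ₗ[K] W) =
        f i + t • f j := by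
      simp only [Pi.add_apply, Pi.smul_apply, add_smul, Finset.sum_add_distrib, smul_eq_mul,
        Pi.single_apply, mul_ite, mul_one, mul_zero, ite_smul, one_smul, zero_smul,
        Finset.sum_ite_eq', Finset.mem_univ, if_true]
    rwa [e] at h
  have hsing0 : ∀ i, ¬ Function.Bijective (f i) := by
    intro i
    have := hsing i i 0
    rwa [zero_smul, add_zero] at this
  have : Nontrivial V := Module.finrank_pos_iff.1 (by omega : 0 < finrank K V)
  -- some arrow is nonzero
  obtain ⟨x, hx⟩ := exists_ne (0 : V)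
  have hx' : prodMap f x ≠ 0 := fun h => hx (hinj (by rw [h, map_zero]))
  obtain ⟨i, hi⟩ := Function.ne_iff.1 hx'
  rw [prodMap_apply, Pi.zero_apply] at hi
  obtain ⟨v, hv0, hv⟩ := exists_ker_of_not_bijective hVW (hsing0 i)
  have hpv : prodMap f v ≠ 0 := fun h => hv0 (hinj (by rw [h, map_zero]))
  obtain ⟨j, hj⟩ := Function.ne_iff.1 hpv
  rw [prodMap_apply, Pi.zero_apply] at hj
  have key : ∀ k, f k v ∈ K ∙ f i x := fun k =>
    apply_ker_mem_of_singular (f i) (f k) hV hW (hsing i k) hv hi ⟨x, rfl⟩
  have hspan : K ∙ f j v = K ∙ f i x := by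
    apply Submodule.eq_of_le_of_finrank_le
    · exact (Submodule.span_singleton_le_iff_mem _ _).2 (key j)
    · rw [finrank_span_singleton hj, finrank_span_singleton hi]
  obtain ⟨v', hv'0, hv'⟩ := exists_ker_of_not_bijective hVW (hsing0 j)
  have key' : ∀ k, f k v' ∈ K ∙ f j v := fun k =>
    apply_ker_mem_of_singular (f j) (f k) hV hW (hsing j k) hv' hj ⟨v, rfl⟩
  -- `v, v'` span `V`
  have hlt : (K ∙ v') < (K ∙ v') ⊔ (K ∙ v) := by
    refine lt_of_le_of_ne le_sup_left fun h => hj ?_
    have h1 : v ∈ K ∙ v' := by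
      rw [h]
      exact (le_sup_right : (K ∙ v) ≤ _) (Submodule.mem_span_singleton_self _)
    obtain ⟨c, rfl⟩ := Submodule.mem_span_singleton.1 h1
    rw [map_smul, hv', smul_zero]
  have htop : (K ∙ v') ⊔ (K ∙ v) = ⊤ := by
    apply Submodule.eq_top_of_finrank_eq
    have h1 := Submodule.finrank_lt_finrank_of_lt hlt
    rw [finrank_span_singleton hv'0] at h1
    have h2 := Submodule.finrank_le ((K ∙ v') ⊔ (K ∙ v))
    omega
  have hall : ∀ k y, f k y ∈ K ∙ f i x := by
    intro k y
    have h1 : ((K ∙ v') ⊔ (K ∙ v)).map (f k) ≤ K ∙ f i x := by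
      rw [Submodule.map_sup, sup_le_iff]
      constructor
      · rw [Submodule.map_span_le]
        rintro _ rfl
        rw [← hspan]
        exact key' k
      · rw [Submodule.map_span_le]
        rintro _ rfl
        exact key k
    exact h1 ⟨y, by rw [htop]; trivial, rfl⟩
  have hle : LinearMap.range (sumMap f) ≤ K ∙ f i x := by
    rintro _ ⟨y, rfl⟩
    rw [sumMap_apply]
    exact Submodule.sum_mem _ fun k _ => hall k _
  rw [LinearMap.range_eq_top.2 hsurj] at hle
  have h3 := Submodule.finrank_mono hle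
  rw [finrank_top, finrank_span_singleton hi] at h3
  omega

end K866.Kron
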